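import Mathlib

set_option autoImplicit false
open scoped BigOperators
open Polynomial

namespace Groth.Agent.Lib.Helper5.EtGen

universe u
variable (K L : Type u) [Field K] [CommRing L] [Algebra K L] [Module.Finite K L]

/-- quotients of separable algebras are separable -/
theorem isSeparable_quotient [Algebra.IsSeparable K L] (I : Ideal L) :
    Algebra.IsSeparable K (L ⧸ I) := by
  constructor
  intro y
  obtain ⟨x, rfl⟩ := Ideal.Quotient.mk_surjective y
  have hx := Algebra.IsSeparable.isSeparable K x
  unfold IsSeparable at hx ⊢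
  refine hx.of_dvd (minpoly.dvd K _ ?_)
  have : (Ideal.Quotient.mk I x) = Ideal.Quotient.mkₐ K I x := rfl
  rw [this, Polynomial.aeval_algHom_apply, minpoly.aeval, map_zero]

variable [IsReduced L] [Algebra.IsSeparable K L]

/-- there are at least `finrank K L` homs to the algebraic closure. -/
theorem finrank_le_card_algHom :
    Module.finrank K L ≤ Nat.card (L →ₐ[K] AlgebraicClosure K) := by
  classical
  haveI : IsArtinianRing L := IsArtinianRing.of_finite K L
  letI : ∀ m : MaximalSpectrum L, Field (L ⧸ m.asIdeal) := fun m => Ideal.Quotient.field m.asIdeal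
  haveI : Fintype (MaximalSpectrum L) := Fintype.ofFinite _
  haveI hsep : ∀ m : MaximalSpectrum L, Algebra.IsSeparable K (L ⧸ m.asIdeal) :=
    fun m => isSeparable_quotient K L m.asIdeal
  let e := (IsArtinianRing.equivPi L).restrictScalars K
  have h1 : Module.finrank K L = ∑ m : MaximalSpectrum L, Module.finrank K (L ⧸ m.asIdeal) := by
    rw [e.toLinearEquiv.finrank_eq, Module.finrank_pi_fintype]
  haveI : ∀ m : MaximalSpectrum L, Fintype ((L ⧸ m.asIdeal) →ₐ[K] AlgebraicClosure K) :=
    fun m => Fintype.ofFinite _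
  have h2 : ∀ m : MaximalSpectrum L,
      Fintype.card ((L ⧸ m.asIdeal) →ₐ[K] AlgebraicClosure K) = Module.finrank K (L ⧸ m.asIdeal) :=
    fun m => by
      rw [Fintype.card_eq_nat_card]
      exact AlgHom.natCard_of_splits K (L ⧸ m.asIdeal) (AlgebraicClosure K)
        (fun _ => IsAlgClosed.splits _)
  let Φ : (Σ m : MaximalSpectrum L, ((L ⧸ m.asIdeal) →ₐ[K] AlgebraicClosure K)) →
      (L →ₐ[K] AlgebraicClosure K) := fun p => p.2.comp (Ideal.Quotient.mkₐ K p.1.asIdeal)
  have hΦ : Function.Injective Φ := by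
    rintro ⟨m, τ⟩ ⟨m', τ'⟩ h
    have hker : ∀ (m : MaximalSpectrum L) (τ : (L ⧸ m.asIdeal) →ₐ[K] AlgebraicClosure K),
        RingHom.ker (τ.comp (Ideal.Quotient.mkₐ K m.asIdeal) : L →ₐ[K] AlgebraicClosure K) =
          m.asIdeal := by
      intro m τ
      ext x
      rw [RingHom.mem_ker]
      simp only [AlgHom.comp_apply, Ideal.Quotient.mkₐ_eq_mk]
      rw [map_eq_zero_iff τ τ.toRingHom.injective, Ideal.Quotient.eq_zero_iff_mem]
    have hm : m = m' := by
      apply MaximalSpectrum.ext
      rw [← hker m τ, ← hker m' τ']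
      exact congrArg (fun f : L →ₐ[K] AlgebraicClosure K => RingHom.ker f) h
    subst hm
    congr 1
    apply AlgHom.ext
    intro y
    obtain ⟨x, rfl⟩ := Ideal.Quotient.mk_surjective y
    exact AlgHom.congr_fun h x
  rw [h1]
  calc ∑ m : MaximalSpectrum L, Module.finrank K (L ⧸ m.asIdeal)
      = Fintype.card (Σ m : MaximalSpectrum L, ((L ⧸ m.asIdeal) →ₐ[K] AlgebraicClosure K)) := by
        rw [Fintype.card_sigma]
        exact Finset.sum_congr rfl fun m _ => (h2 m).symm
    _ = Nat.card (Σ m : MaximalSpectrum L, ((L ⧸ m.asIdeal) →ₐ[K] AlgebraicClosure K)) :=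
        Fintype.card_eq_nat_card
    _ ≤ Nat.card (L →ₐ[K] AlgebraicClosure K) := Nat.card_le_card_of_injective Φ hΦ

omit [IsReduced L] [Algebra.IsSeparable K L] in
/-- Vandermonde: an element separating `finrank K L` many homs generates. -/
theorem adjoin_eq_top_of_injective (u : L)
    (hcard : Module.finrank K L ≤ Nat.card (L →ₐ[K] AlgebraicClosure K))
    (hinj : Function.Injective fun σ : L →ₐ[K] AlgebraicClosure K => σ u) :
    Algebra.adjoin K ({u} : Set L) = ⊤ := by
  classical
  haveI : Fintype (L →ₐ[K] AlgebraicClosure K) := Fintype.ofFinite _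
  have hint : IsIntegral K u := Algebra.IsIntegral.isIntegral u
  have hdeg : Module.finrank K L ≤ (minpoly K u).natDegree := by
    by_contra hlt
    rw [not_le] at hlt
    have h0 : (minpoly K u).map (algebraMap K (AlgebraicClosure K)) = 0 := by
      refine Polynomial.eq_zero_of_natDegree_lt_card_of_eval_eq_zero _ hinj ?_ ?_
      · intro σ
        rw [Polynomial.eval_map_algebraMap, Polynomial.aeval_algHom_apply, minpoly.aeval, map_zero]
      · rw [Polynomial.natDegree_map, Fintype.card_eq_nat_card]
        omega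
    rw [Polynomial.map_eq_zero] at h0
    exact minpoly.ne_zero hint h0
  have hfr : Module.finrank K (Algebra.adjoin K ({u} : Set L)) = (minpoly K u).natDegree :=
    (Algebra.adjoin.powerBasis hint).finrank
  have hle : Module.finrank K (Algebra.adjoin K ({u} : Set L)) ≤ Module.finrank K L :=
    Submodule.finrank_le (Subalgebra.toSubmodule (Algebra.adjoin K ({u} : Set L)))
  have heq : Module.finrank K (Subalgebra.toSubmodule (Algebra.adjoin K ({u} : Set L))) =
      Module.finrank K L := by
    have : Module.finrank K (Subalgebra.toSubmodule (Algebra.adjoin K ({u} : Set L))) =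
        Module.finrank K (Algebra.adjoin K ({u} : Set L)) := rfl
    omega
  have := Submodule.eq_top_of_finrank_eq heq
  exact Algebra.toSubmodule_eq_top.mp this

theorem aux_lt (d : ℕ) : d * (d - 1) < d ^ (4 * d) := by
  rcases Nat.eq_zero_or_pos d with rfl | hd
  · simp
  · calc d * (d - 1) < d * d := Nat.mul_lt_mul_of_pos_left (by omega) hd
      _ = d ^ 2 := (sq d).symm
      _ ≤ d ^ (4 * d) := Nat.pow_le_pow_right hd (by omega)

theorem main (z t : L)
    (hgen : Algebra.adjoin K ({z, t} : Set L) = ⊤) (S : Finset K)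
    (hS : Module.finrank K L ^ (4 * Module.finrank K L) ≤ S.card) :
    ∃ c ∈ S, Algebra.adjoin K ({c • z + t} : Set L) = ⊤ := by
  classical
  haveI : Fintype (L →ₐ[K] AlgebraicClosure K) := Fintype.ofFinite _
  set d := Module.finrank K L with hd
  have hc1 : d ≤ Nat.card (L →ₐ[K] AlgebraicClosure K) := finrank_le_card_algHom K L
  have hc2 : Nat.card (L →ₐ[K] AlgebraicClosure K) ≤ d :=
    card_algHom_le_finrank K L (AlgebraicClosure K)
  have hcard : Fintype.card (L →ₐ[K] AlgebraicClosure K) = d := by
    rw [Fintype.card_eq_nat_card]; omega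
  -- the bad set
  let B : Finset K := (Finset.univ : Finset (L →ₐ[K] AlgebraicClosure K)).offDiag.biUnion
    fun p => S.filter fun c => p.1 (c • z + t) = p.2 (c • z + t)
  have hB1 : ∀ p ∈ (Finset.univ : Finset (L →ₐ[K] AlgebraicClosure K)).offDiag,
      (S.filter fun c => p.1 (c • z + t) = p.2 (c • z + t)).card ≤ 1 := by
    rintro ⟨σ, τ⟩ hp
    rw [Finset.mem_offDiag] at hp
    rw [Finset.card_le_one]
    intro c hc c' hc'
    rw [Finset.mem_filter] at hc hc'
    by_contra hne
    apply hp.2.2
    have e1 := hc.2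
    have e2 := hc'.2
    simp only [map_add, map_smul] at e1 e2
    have hz : σ z = τ z := by
      have h3 : (c - c') • (σ z - τ z) = 0 := by
        rw [sub_smul, smul_sub, smul_sub]
        linear_combination e1 - e2
      rcases smul_eq_zero.mp h3 with h4 | h4
      · exact absurd (sub_eq_zero.mp h4) hne
      · exact sub_eq_zero.mp h4
    have ht : σ t = τ t := by
      rw [hz] at e1
      exact add_left_cancel e1
    apply AlgHom.ext_of_adjoin_eq_top hgen
    intro x hx
    rcases hx with rfl | rfl
    · exact hz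
    · exact ht
  have hBcard : B.card ≤ d * (d - 1) := by
    calc B.card ≤ ∑ p ∈ (Finset.univ : Finset (L →ₐ[K] AlgebraicClosure K)).offDiag,
          (S.filter fun c => p.1 (c • z + t) = p.2 (c • z + t)).card := Finset.card_biUnion_le
      _ ≤ ∑ _p ∈ (Finset.univ : Finset (L →ₐ[K] AlgebraicClosure K)).offDiag, 1 :=
          Finset.sum_le_sum hB1
      _ = d * (d - 1) := by
          rw [Finset.sum_const, Finset.offDiag_card, Finset.card_univ, hcard, smul_eq_mul, mul_one,
            Nat.mul_sub, mul_one]
  have hlt : B.card < S.card := lt_of_le_of_lt hBcard (lt_of_lt_of_le (aux_lt d) hS)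
  obtain ⟨c, hcS, hcB⟩ := Finset.exists_mem_notMem_of_card_lt_card hlt
  refine ⟨c, hcS, adjoin_eq_top_of_injective K L _ hc1 ?_⟩
  intro σ τ hστ
  by_contra hne
  apply hcB
  rw [Finset.mem_biUnion]
  exact ⟨(σ, τ), by rw [Finset.mem_offDiag]; exact ⟨Finset.mem_univ _, Finset.mem_univ _, hne⟩,
    Finset.mem_filter.mpr ⟨hcS, hστ⟩⟩

end Groth.Agent.Lib.Helper5.EtGen
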